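import Mathlib
import Groth.Agent.ValExtLib.Criterion
import Groth.Agent.NeronLib.Glue
import Groth.Agent.CAlgH3.RegularLocal

/-! Extension of sections of closed separated morphisms across points of codimension at most one. -/

set_option autoImplicit false
set_option backward.isDefEq.respectTransparency.types false

universe u

namespace Groth.Agent.RatExtLib

open CategoryTheory CategoryTheory.Limits AlgebraicGeometry TopologicalSpace

variable {X Y : Scheme.{u}}

/-- A regular local ring of dimension at most one is a valuation ring. -/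
theorem valuationRing_of_regular_dim_le_one (O : Type u) [CommRing O] [IsDomain O] [IsRegularLocalRing O]
    (h : ringKrullDim O ≤ 1) : ValuationRing O := by
  have h1 := (IsRegularLocalRing.iff_finrank_cotangentSpace O).mp inferInstance
  rw [← h1] at h
  exact ((tfae_of_isNoetherianRing_of_isLocalRing_of_isDomain O).out 5 1).mp (by exact_mod_cast h)

/-- Closed maps stay closed after base change along a preimmersion. -/
theorem isClosedMap_snd_of_isPreimmersion {S : Scheme.{u}} (f : X ⟶ S) (j : Y ⟶ S) [IsPreimmersion j]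
    (hf : IsClosedMap f.base) : IsClosedMap (pullback.snd f j).base := by
  have hfst : IsPreimmersion (pullback.fst f j) := inferInstance
  intro C hC
  obtain ⟨C', hC', rfl⟩ := (pullback.fst f j).isEmbedding.isInducing.isClosed_iff.mp hC
  have : (pullback.snd f j).base '' ((pullback.fst f j).base ⁻¹' C') = j.base ⁻¹' (f.base '' C') := by
    ext y
    constructor
    · rintro ⟨z, hz, rfl⟩
      exact ⟨_, hz, by rw [← Scheme.Hom.comp_apply, pullback.condition, Scheme.Hom.comp_apply]⟩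
    · rintro ⟨x, hx, hxy⟩
      obtain ⟨z, hz1, hz2⟩ := Scheme.Pullback.exists_preimage_pullback x y hxy
      refine ⟨z, ?_, hz2⟩
      show pullback.fst f j z ∈ C'
      rw [hz1]; exact hx
  rw [this]
  exact (hf C' hC').preimage j.continuous

/-- Local extension at a point whose local ring is a valuation ring. -/
theorem exists_local_extension [IsLocallyNoetherian Y] [IsReduced Y] (f : X ⟶ Y) [IsSeparated f]
    [LocallyOfFiniteType f] (hcl : IsClosedMap f.base) (V : Y.Opens) (hV : Dense (V : Set Y))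
    (s : (V : Scheme.{u}) ⟶ X) (hs : s ≫ f = V.ι) (y : Y) [IsDomain (Y.presheaf.stalk y)]
    [ValuationRing (Y.presheaf.stalk y)] :
    ∃ (W : Y.Opens) (_ : y ∈ W) (g : (W : Scheme.{u}) ⟶ X), g ≫ f = W.ι ∧ NeronLib.Agree g s := by
  let K := CommRingCat.of (FractionRing (Y.presheaf.stalk y))
  let a : Y.presheaf.stalk y ⟶ K :=
    CommRingCat.ofHom (algebraMap (Y.presheaf.stalk y) (FractionRing (Y.presheaf.stalk y)))
  have ha : Function.Injective a.hom :=
    IsFractionRing.injective (Y.presheaf.stalk y) (FractionRing (Y.presheaf.stalk y))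
  obtain ⟨W, hyW, hW, hWinj⟩ := Y.exists_germ_injective y
  have : IsDomain Γ(Y, W) := hWinj.isDomain
  have : IsIntegral (W : Scheme.{u}) := by
    have : IsDomain (CommRingCat.of Γ(Y, W)) := ‹_›
    have : Nonempty (W : Scheme.{u}) := ⟨⟨y, hyW⟩⟩
    exact isIntegral_of_isOpenImmersion hW.isoSpec.hom
  let ηW : Spec K ⟶ (W : Scheme.{u}) := Spec.map a ≫ W.fromSpecStalkOfMem y hyW
  let η : Spec K ⟶ Y := Spec.map a ≫ Y.fromSpecStalk y
  have hηW : ηW ≫ W.ι = η := by simp [ηW, η]
  have hdom : DenseRange ηW := by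
    have h2 : ηW ≫ hW.isoSpec.hom = Spec.map (Y.presheaf.germ W y hyW ≫ a) := by
      simp [ηW, IsAffineOpen.isoSpec_hom, Spec.map_comp]
    have h3 := (ValExtLib.isDominant_spec_of_injective (Y.presheaf.germ W y hyW ≫ a) (ha.comp hWinj)).denseRange
    rw [← h2] at h3
    have h4 := hW.isoSpec.inv.surjective.denseRange.comp h3 hW.isoSpec.inv.continuous
    have : (hW.isoSpec.inv : _ → _) ∘ (ηW ≫ hW.isoSpec.hom) = ηW := by
      funext z
      rw [Function.comp_apply, ← Scheme.Hom.comp_apply, Category.assoc, Iso.hom_inv_id, Category.comp_id]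
    rwa [this] at h4
  have hηV : ∀ z, η z ∈ V := fun z ↦ by
    obtain ⟨w, hwW, hwV⟩ := hV.inter_open_nonempty W W.isOpen ⟨y, hyW⟩
    obtain ⟨z', hz'⟩ := hdom.exists_mem_open (W.ι ⁻¹ᵁ V).isOpen ⟨⟨w, hwW⟩, hwV⟩
    rw [(inferInstance : Subsingleton (PrimeSpectrum (FractionRing (Y.presheaf.stalk y)))).elim z z', ← hηW,
      Scheme.Hom.comp_apply]
    exact hz'
  let ηV : Spec K ⟶ (V : Scheme.{u}) := IsOpenImmersion.lift V.ι η (by
    rintro _ ⟨z, rfl⟩; rw [Scheme.Opens.range_ι]; exact hηV z)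
  have hηV' : ηV ≫ V.ι = η := IsOpenImmersion.lift_fac _ _ _
  let x : Spec K ⟶ pullback f (Y.fromSpecStalk y) := pullback.lift (ηV ≫ s) (Spec.map a) (by
    rw [Category.assoc, hs, hηV'])
  have hcl' := isClosedMap_snd_of_isPreimmersion f (Y.fromSpecStalk y) hcl
  have hdom' : IsDomain (Y.presheaf.stalk y) := inferInstance
  obtain ⟨l, ⟨hl, hlx⟩, -⟩ := @ValExtLib.existsUnique_section _ (Y.presheaf.stalk y) _ hdom' ‹_›
    (FractionRing (Y.presheaf.stalk y)) _ _ _
    (pullback.snd f (Y.fromSpecStalk y)) inferInstance hcl' x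
    (pullback.lift_snd _ _ _)
  let φ : Spec (Y.presheaf.stalk y) ⟶ X := l ≫ pullback.fst _ _
  have hφ : φ ≫ f = Y.fromSpecStalk y ≫ 𝟙 Y := by
    rw [Category.assoc, pullback.condition, ← Category.assoc, Category.comp_id]
    exact (congrArg (· ≫ Y.fromSpecStalk y) hl).trans (Category.id_comp _)
  have hφK : Spec.map a ≫ φ = ηV ≫ s := by
    rw [← Category.assoc]
    exact (congrArg (· ≫ pullback.fst _ _) hlx).trans (pullback.lift_fst _ _ _)
  obtain ⟨U₁, hyU₁, f₁, hf₁, hf₁'⟩ := spread_out_of_isGermInjective' (𝟙 Y) f φ hφ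
  let W₁ := U₁ ⊓ W
  refine ⟨W₁, ⟨hyU₁, hyW⟩, Y.homOfLE inf_le_left ≫ f₁, ?_, NeronLib.agree_of_homOfLE _ _ ?_⟩
  · rw [Category.assoc, hf₁', Category.comp_id, Scheme.homOfLE_ι]
  let T : Y.Opens := W₁ ⊓ V
  have hTW : T ≤ W := fun z hz ↦ hz.1.2
  have hηT : ∀ z, η z ∈ T := fun z ↦ by
    have hsp : η z ⤳ y := by
      have : η z ∈ Set.range (Y.fromSpecStalk y) := ⟨_, (Scheme.Hom.comp_apply _ _ z).symm⟩
      rwa [Scheme.range_fromSpecStalk] at this
    exact ⟨hsp.mem_open W₁.isOpen ⟨hyU₁, hyW⟩, hηV z⟩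
  let lT : Spec K ⟶ (T : Scheme.{u}) := IsOpenImmersion.lift T.ι η (by
    rintro _ ⟨z, rfl⟩; rw [Scheme.Opens.range_ι]; exact hηT z)
  have hlT : lT ≫ T.ι = η := IsOpenImmersion.lift_fac _ _ _
  have : IsDominant lT := by
    refine ⟨?_⟩
    have hcomp : (Y.homOfLE hTW : _ → _) ∘ lT = ηW := by
      have : lT ≫ Y.homOfLE hTW = ηW := by
        rw [← cancel_mono W.ι, Category.assoc, Scheme.homOfLE_ι, hlT, hηW]
      funext z; rw [Function.comp_apply, ← Scheme.Hom.comp_apply, this]
    intro z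
    rw [(Y.homOfLE hTW).isOpenEmbedding.isInducing.closure_eq_preimage_closure_image, Set.mem_preimage,
      ← Set.range_comp, hcomp]
    exact hdom _
  have : IsReduced (T : Scheme.{u}) := isReduced_of_isOpenImmersion T.ι
  refine ext_of_isDominant_of_isSeparated f ?_ lT ?_
  · rw [Category.assoc, Category.assoc, Category.assoc, hf₁', Category.comp_id, Scheme.homOfLE_ι,
      Scheme.homOfLE_ι, hs, Scheme.homOfLE_ι]
  · have e1 : lT ≫ Y.homOfLE (inf_le_left : T ≤ W₁) ≫ Y.homOfLE (inf_le_left : W₁ ≤ U₁) =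
        Spec.map a ≫ U₁.fromSpecStalkOfMem y hyU₁ := by
      rw [← cancel_mono U₁.ι, Category.assoc, Category.assoc, Scheme.homOfLE_ι, Scheme.homOfLE_ι, hlT,
        Category.assoc, Scheme.Opens.fromSpecStalkOfMem_ι]
    have e2 : lT ≫ Y.homOfLE (inf_le_right : T ≤ V) = ηV := by
      rw [← cancel_mono V.ι, Category.assoc, Scheme.homOfLE_ι, hlT, hηV']
    rw [reassoc_of% e1, reassoc_of% e2, ← hf₁]
    exact hφK

/-- Sections of separated closed morphisms extend across all points of codimension at most one. -/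
theorem exists_extension_dimOne [IsLocallyNoetherian Y] [IsReduced Y]
    (hreg : ∀ y : Y, ringKrullDim (Y.presheaf.stalk y) ≤ 1 → IsRegularLocalRing (Y.presheaf.stalk y))
    (f : X ⟶ Y) [IsSeparated f] [LocallyOfFiniteType f] (hcl : IsClosedMap f.base)
    (V : Y.Opens) (hV : Dense (V : Set Y)) (s : (V : Scheme.{u}) ⟶ X) (hs : s ≫ f = V.ι) :
    ∃ (U : Y.Opens) (hVU : V ≤ U) (s' : (U : Scheme.{u}) ⟶ X), s' ≫ f = U.ι ∧ Y.homOfLE hVU ≫ s' = s ∧
      ∀ y : Y, ringKrullDim (Y.presheaf.stalk y) ≤ 1 → y ∈ U := by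
  have key : ∀ y : {y : Y // ringKrullDim (Y.presheaf.stalk y) ≤ 1},
      ∃ (W : Y.Opens) (_ : y.1 ∈ W) (g : (W : Scheme.{u}) ⟶ X), g ≫ f = W.ι ∧ NeronLib.Agree g s := by
    rintro ⟨y, hy⟩
    have := hreg y hy
    have := CAlgH3.isDomain_of_isRegularLocalRing (Y.presheaf.stalk y)
    have := valuationRing_of_regular_dim_le_one (Y.presheaf.stalk y) hy
    exact exists_local_extension f hcl V hV s hs y
  choose W hyW g hg hag using key
  let ι := Option {y : Y // ringKrullDim (Y.presheaf.stalk y) ≤ 1}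
  let O : ι → Y.Opens := fun o ↦ o.elim V W
  let G : ∀ o : ι, (O o : Scheme.{u}) ⟶ X := fun o ↦
    match o with
    | none => s
    | some y => g y
  have hG : ∀ o, G o ≫ f = (O o).ι ≫ 𝟙 Y := fun o ↦
    match o with
    | none => hs.trans (Category.comp_id _).symm
    | some y => (hg y).trans (Category.comp_id _).symm
  have hA : ∀ o, NeronLib.Agree (G o) s := fun o ↦
    match o with
    | none => fun _ a b hab ↦ by
        exact congrArg (· ≫ s) ((cancel_mono V.ι).mp hab)
    | some y => hag y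
  obtain ⟨s', hs', hs''⟩ := NeronLib.exists_glue (𝟙 Y) f V hV s O G hG hA
  exact ⟨⨆ o, O o, le_iSup O none, s', hs'.trans (Category.comp_id _), hs'' none,
    fun y hy ↦ Opens.mem_iSup.mpr ⟨some ⟨y, hy⟩, hyW ⟨y, hy⟩⟩⟩

end Groth.Agent.RatExtLib
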